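import Groth.Agent.Htor.H240.KunnEl
import Mathlib.LinearAlgebra.Finsupp.LinearCombination
import Mathlib.LinearAlgebra.FreeModule.Basic

/-!
# Covering a bounded above complex by spheres and disks on free modules

For `M` vanishing above `b` we construct a termwise surjective `p : P ⟶ M`, surjective on homology, with `P`
vanishing above `b`, and a quasi-isomorphism `s : Q ⟶ P` with `Q` a complex of free modules with zero
differential.
-/

set_option autoImplicit false

universe u

open CategoryTheory CategoryTheory.Limits HomologicalComplex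

namespace Groth.Agent.Htor.H240.Cover

open KunnEl

variable {A : Type u} [CommRing A] (M : DRing.Cx A) (b : ℤ)

/-- generators of the spheres in degree `i` -/
abbrev S (i : ℤ) : Type u := {_z : M.cycles i // i ≤ b}

/-- generators of the disks starting in degree `i` -/
abbrev G (i : ℤ) : Type u := {x : (k : ℤ) × M.X k // x.1 = i ∧ i < b}

/-- generators of the disks ending in degree `i` -/
abbrev G' (i : ℤ) : Type u := {x : (k : ℤ) × M.X k // x.1 + 1 = i ∧ x.1 < b}

/-- the end of a disk -/
def inc (i j : ℤ) (h : i + 1 = j) : G M b i → G' M b j := fun x => ⟨x.1, by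
  obtain ⟨x, h1, h2⟩ := x
  dsimp
  lia⟩

lemma inc_injective (i j : ℤ) (h : i + 1 = j) : Function.Injective (inc M b i j h) := by
  intro x y hxy
  exact Subtype.ext (congrArg (fun t : G' M b j => t.1) hxy)

lemma inc_surjective (i j : ℤ) (h : i + 1 = j) : Function.Surjective (inc M b i j h) := by
  rintro ⟨x, h1, h2⟩
  exact ⟨⟨x, by lia⟩, rfl⟩

/-- terms -/
abbrev PX (i : ℤ) : Type u := (S M b i →₀ A) × (G M b i →₀ A) × (G' M b i →₀ A)

/-- differential -/
noncomputable def Pd (i j : ℤ) (h : i + 1 = j) : PX M b i →ₗ[A] PX M b j :=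
  LinearMap.inr A _ _ ∘ₗ LinearMap.inr A _ _ ∘ₗ Finsupp.lmapDomain A A (inc M b i j h) ∘ₗ
    LinearMap.fst A _ _ ∘ₗ LinearMap.snd A _ _

lemma Pd_apply (i j : ℤ) (h : i + 1 = j) (x : PX M b i) :
    Pd M b i j h x = (0, 0, Finsupp.mapDomain (inc M b i j h) x.2.1) := rfl

open Classical in
/-- The complex of spheres and disks. -/
noncomputable def P : DRing.Cx A where
  X i := ModuleCat.of A (PX M b i)
  d i j := if h : i + 1 = j then ModuleCat.ofHom (Pd M b i j h) else 0
  shape i j h := by
    rw [dif_neg]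
    exact h
  d_comp_d' i j k hij hjk := by
    have h1 : i + 1 = j := hij
    have h2 : j + 1 = k := hjk
    rw [dif_pos h1, dif_pos h2]
    ext1
    refine LinearMap.ext fun x => ?_
    change Pd M b j k h2 (Pd M b i j h1 x) = 0
    rw [Pd_apply, Pd_apply]
    simp

lemma P_d (i j : ℤ) (h : i + 1 = j) : (P M b).d i j = ModuleCat.ofHom (Pd M b i j h) :=
  dif_pos h

/-- The complex of spheres. -/
noncomputable def Q : DRing.Cx A where
  X i := ModuleCat.of A (S M b i →₀ A)
  d _ _ := 0

/-- The spheres inside `P`. -/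
noncomputable def s : Q M b ⟶ P M b where
  f i := ModuleCat.ofHom (LinearMap.inl A (S M b i →₀ A) ((G M b i →₀ A) × (G' M b i →₀ A)))
  comm' i j h := by
    have h1 : i + 1 = j := h
    rw [P_d M b i j h1]
    ext1
    refine LinearMap.ext fun x => ?_
    change Pd M b i j h1 (x, 0) = (0, 0)
    rw [Pd_apply]
    simp

/-- The projection from `P` to the spheres. -/
noncomputable def r : P M b ⟶ Q M b where
  f i := ModuleCat.ofHom (LinearMap.fst A (S M b i →₀ A) ((G M b i →₀ A) × (G' M b i →₀ A)))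
  comm' i j h := by
    have h1 : i + 1 = j := h
    rw [P_d M b i j h1]
    ext1
    refine LinearMap.ext fun x => ?_
    change 0 = (Pd M b i j h1 x).1
    rw [Pd_apply]

lemma s_r : s M b ≫ r M b = 𝟙 _ := by
  ext i : 1
  ext1
  refine LinearMap.ext fun x => ?_
  rfl

/-- the linear map in degree `i` -/
noncomputable def pX (i : ℤ) : PX M b i →ₗ[A] M.X i :=
  LinearMap.coprod (Finsupp.linearCombination A (fun z : S M b i => (M.iCycles i).hom z.1))
    (LinearMap.coprod
      (Finsupp.linearCombination A (fun x : G M b i => (M.XIsoOfEq x.2.1).hom.hom x.1.2))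
      (Finsupp.linearCombination A (fun x : G' M b i => (M.d x.1.1 i).hom x.1.2)))

/-- The map `P ⟶ M`. -/
noncomputable def p : P M b ⟶ M where
  f i := ModuleCat.ofHom (pX M b i)
  comm' i j h := by
    have h1 : i + 1 = j := h
    rw [P_d M b i j h1]
    ext1
    change (M.d i j).hom ∘ₗ pX M b i = pX M b j ∘ₗ Pd M b i j h1
    refine LinearMap.prod_ext (Finsupp.lhom_ext fun z a => ?_)
      (LinearMap.prod_ext (Finsupp.lhom_ext fun z a => ?_) (Finsupp.lhom_ext fun z a => ?_))
    · simp [pX, Pd_apply, d_iCycles]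
    · obtain ⟨⟨k, z⟩, hz, hz'⟩ := z
      dsimp at hz
      subst hz
      simp [pX, Pd_apply, inc]
    · obtain ⟨⟨k, z⟩, hz, hz'⟩ := z
      have : (M.d i j).hom ((M.d k i).hom z) = 0 := by
        rw [← LinearMap.comp_apply, ← ModuleCat.hom_comp, M.d_comp_d]
        rfl
      simp [pX, Pd_apply, this]

lemma p_S (i : ℤ) (z : S M b i) :
    ((p M b).f i).hom ((Finsupp.single z 1, 0, 0) : PX M b i) = (M.iCycles i).hom z.1 := by
  change pX M b i _ = _
  simp [pX]

lemma p_G (i : ℤ) (z : G M b i) :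
    ((p M b).f i).hom ((0, Finsupp.single z 1, 0) : PX M b i) = (M.XIsoOfEq z.2.1).hom.hom z.1.2 := by
  change pX M b i _ = _
  simp [pX]

variable {b} (hM : DRing.VanishesAbove M b)

include hM

lemma subsingleton_of_lt (i : ℤ) (hi : b < i) : Subsingleton (M.X i) :=
  ModuleCat.subsingleton_of_isZero (hM i hi)

lemma p_surjective (i : ℤ) : Function.Surjective ((p M b).f i).hom := by
  intro x
  by_cases hi : i < b
  · refine ⟨((0, Finsupp.single ⟨⟨i, x⟩, rfl, hi⟩ 1, 0) : PX M b i), ?_⟩
    rw [p_G]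
    simp
  · by_cases hi' : i = b
    · subst hi'
      have := subsingleton_of_lt M hM (i + 1) (by lia)
      obtain ⟨z, rfl⟩ := exists_cycle M i x (Subsingleton.elim _ _)
      exact ⟨((Finsupp.single ⟨z, le_refl i⟩ 1, 0, 0) : PX M i i), p_S M i i _⟩
    · have := subsingleton_of_lt M hM i (by lia)
      exact ⟨0, Subsingleton.elim _ _⟩

omit hM in
lemma d_S (i j : ℤ) (z : S M b i →₀ A) : ((P M b).d i j).hom ((z, 0, 0) : PX M b i) = 0 := by
  by_cases h : i + 1 = j
  · rw [P_d M b i j h]
    change Pd M b i j h _ = 0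
    rw [Pd_apply]
    simp
  · rw [(P M b).shape i j h]
    rfl

lemma homologyMap_p_surjective (i : ℤ) : Function.Surjective (homologyMap (p M b) i).hom := by
  intro x
  obtain ⟨z, rfl⟩ := homologyπ_surjective M i x
  by_cases hi : i ≤ b
  · obtain ⟨w, hw⟩ := exists_cycle (P M b) i ((Finsupp.single ⟨z, hi⟩ 1, 0, 0) : PX M b i)
      (d_S M i (i + 1) _)
    refine ⟨((P M b).homologyπ i).hom w, ?_⟩
    rw [homologyMap_π]
    congr 1
    apply iCycles_injective
    rw [iCycles_cyclesMap, hw, p_S]
  · have := subsingleton_of_lt M hM i (by lia)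
    refine ⟨0, ?_⟩
    have : z = 0 := iCycles_injective M i (Subsingleton.elim _ _)
    rw [this, map_zero, map_zero]

omit hM in
lemma homologyMap_s_surjective (i : ℤ) : Function.Surjective (homologyMap (s M b) i).hom := by
  intro x
  obtain ⟨w, rfl⟩ := homologyπ_surjective (P M b) i x
  obtain ⟨q, g, g'⟩ : PX M b i := ((P M b).iCycles i).hom w
  have hw : ∃ q g g', ((P M b).iCycles i).hom w = ((q, g, g') : PX M b i) :=
    ⟨_, _, _, rfl⟩
  clear q g g'
  obtain ⟨q, g, g', hw⟩ := hw
  have h1 := d_iCycles (P M b) i (i + 1) w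
  rw [hw, P_d M b i (i + 1) rfl] at h1
  have h2 : Finsupp.mapDomain (inc M b i (i + 1) rfl) g = 0 :=
    congrArg (fun t : PX M b (i + 1) => t.2.2) h1
  have h3 : g = 0 := Finsupp.mapDomain_injective (inc_injective M b i (i + 1) rfl) (by
    rw [h2, Finsupp.mapDomain_zero])
  subst h3
  obtain ⟨g'', hg''⟩ := Finsupp.mapDomain_surjective (M := A)
    (inc_surjective M b (i - 1) i (by lia)) g'
  obtain ⟨t, ht⟩ := exists_cycle (Q M b) i q rfl
  refine ⟨((Q M b).homologyπ i).hom t, ?_⟩
  rw [homologyMap_π, ← sub_eq_zero, ← map_sub, homologyπ_eq_zero_iff' _ (i - 1) i (by lia)]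
  refine ⟨((0, -g'', 0) : PX M b (i - 1)), ?_⟩
  rw [map_sub, iCycles_cyclesMap, ht, hw, P_d M b (i - 1) i (by lia)]
  change Pd M b (i - 1) i _ (0, -g'', 0) = ((q, 0, 0) : PX M b i) - ((q, 0, g') : PX M b i)
  rw [Pd_apply]
  have h4 : Finsupp.mapDomain (inc M b (i - 1) i (by lia)) (-g'') = -g' := by
    rw [← hg'']
    exact map_neg (Finsupp.mapDomain.addMonoidHom (inc M b (i - 1) i (by lia))) g''
  dsimp only
  rw [h4]
  simp

omit hM in
instance quasiIso_s : QuasiIso (s M b) := by
  refine ⟨fun i => ?_⟩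
  rw [quasiIsoAt_iff_isIso_homologyMap]
  refine (ConcreteCategory.isIso_iff_bijective _).2 ⟨?_, homologyMap_s_surjective M i⟩
  have : homologyMap (s M b) i ≫ homologyMap (r M b) i = 𝟙 _ := by
    rw [← homologyMap_comp, s_r, homologyMap_id]
  exact Function.LeftInverse.injective (g := (homologyMap (r M b) i).hom) fun x =>
    congrArg (fun φ => φ.hom x) this

omit hM in
lemma P_vanishesAbove : DRing.VanishesAbove (P M b) b := by
  intro i hi
  have h1 : IsEmpty (S M b i) := ⟨fun x => by have := x.2; lia⟩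
  have h2 : IsEmpty (G M b i) := ⟨fun x => by have := x.2.2; lia⟩
  have h3 : IsEmpty (G' M b i) := ⟨fun x => by have := x.2; lia⟩
  have : Subsingleton (PX M b i) := inferInstance
  exact @ModuleCat.isZero_of_subsingleton A _ (ModuleCat.of A (PX M b i)) this

end Groth.Agent.Htor.H240.Cover
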