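import Mathlib.Algebra.DirectSum.Module
import Groth.Prelude.Def_HTor

/-!
# Direct sums of modules: kernels, images, reindexing; subquotients
-/

set_option autoImplicit false

universe u v w

namespace Groth.Agent.Htor.H240.DSum

open DirectSum

section

variable {A : Type u} [CommRing A] {I : Type v} [DecidableEq I] {M N : I → Type w}
  [∀ i, AddCommGroup (M i)] [∀ i, Module A (M i)] [∀ i, AddCommGroup (N i)] [∀ i, Module A (N i)]

/-- Pointwise preimages give a preimage. -/
lemma exists_lmap_eq (f : ∀ i, M i →ₗ[A] N i) (y : ⨁ i, N i) (h : ∀ i, ∃ x, f i x = y i) :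
    ∃ x : ⨁ i, M i, DirectSum.lmap f x = y := by
  classical
  choose g hg using h
  refine ⟨DirectSum.mk M (DFinsupp.support y) (fun i => g i), ?_⟩
  refine DFinsupp.ext fun i => ?_
  rw [DirectSum.lmap_apply]
  by_cases hi : i ∈ DFinsupp.support y
  · have : (DirectSum.mk M (DFinsupp.support y) (fun i => g i)) i = g i := by
      change (DFinsupp.mk (DFinsupp.support y) (fun i => g i) : Π₀ i, M i) i = g i
      exact DFinsupp.mk_of_mem hi
    rw [this, hg]
  · have : (DirectSum.mk M (DFinsupp.support y) (fun i => g i)) i = 0 := by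
      change (DFinsupp.mk (DFinsupp.support y) (fun i => g i) : Π₀ i, M i) i = 0
      exact DFinsupp.mk_of_notMem hi
    rw [this, map_zero]
    exact (DFinsupp.notMem_support_iff.1 hi).symm

omit [DecidableEq I] in
lemma lmap_injective (f : ∀ i, M i →ₗ[A] N i) (h : ∀ i, Function.Injective (f i)) :
    Function.Injective (DirectSum.lmap f) := (DirectSum.lmap_injective f).2 h

omit [DecidableEq I] in
lemma lmap_surjective (f : ∀ i, M i →ₗ[A] N i) (h : ∀ i, Function.Surjective (f i)) :
    Function.Surjective (DirectSum.lmap f) := (DirectSum.lmap_surjective f).2 h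

variable {P : I → Type w} [∀ i, AddCommGroup (P i)] [∀ i, Module A (P i)]

/-- Direct sums of exact sequences are exact. -/
lemma exact_lmap (f : ∀ i, M i →ₗ[A] N i) (g : ∀ i, N i →ₗ[A] P i)
    (h : ∀ i, Function.Exact (f i) (g i)) :
    Function.Exact (DirectSum.lmap f) (DirectSum.lmap g) := by
  intro y
  constructor
  · intro hy
    refine exists_lmap_eq f y fun i => ?_
    refine (h i (y i)).1 ?_
    rw [← DirectSum.lmap_apply, hy]
    rfl
  · rintro ⟨x, rfl⟩
    refine DFinsupp.ext fun i => ?_
    rw [DirectSum.lmap_apply, DirectSum.lmap_apply]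
    exact (h i _).2 ⟨_, rfl⟩

end

section Reindex

variable {A : Type u} [CommRing A] {I J : Type v} [DecidableEq I] [DecidableEq J]
  {M : I → Type w} {N : J → Type w}
  [∀ i, AddCommGroup (M i)] [∀ i, Module A (M i)] [∀ i, AddCommGroup (N i)] [∀ i, Module A (N i)]

/-- Direct sums indexed by equivalent sets. -/
lemma nonempty_linearEquiv (e : I ≃ J) (f : ∀ i, Nonempty (M i ≃ₗ[A] N (e i))) :
    Nonempty ((⨁ i, M i) ≃ₗ[A] ⨁ j, N j) := by
  replace f := fun i => Classical.choice (f i)
  let φ : (⨁ i, M i) →ₗ[A] ⨁ j, N j :=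
    DirectSum.toModule A I _ (fun i => DirectSum.lof A J N (e i) ∘ₗ (f i).toLinearMap)
  have hφ : ∀ (x : ⨁ i, M i) (i : I), φ x (e i) = f i (x i) := by
    intro x i
    induction x using DirectSum.induction_on with
    | zero => simp
    | add x y hx hy =>
      rw [map_add, DirectSum.add_apply, DirectSum.add_apply, map_add, hx, hy]
    | of k x =>
      have h1 : φ (DirectSum.lof A I M k x) = DirectSum.lof A J N (e k) (f k x) :=
        DirectSum.toModule_lof A k x
      change φ (DirectSum.lof A I M k x) (e i) = f i ((DirectSum.lof A I M k x) i)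
      rw [h1]
      by_cases hk : k = i
      · subst hk
        rw [DirectSum.lof_apply, DirectSum.lof_apply]
      · have h2 : (DirectSum.lof A I M k x) i = 0 := DirectSum.of_eq_of_ne _ _ _ (Ne.symm hk)
        have h3 : (DirectSum.lof A J N (e k) (f k x)) (e i) = 0 :=
          DirectSum.of_eq_of_ne _ _ _ (fun h => hk (e.injective h).symm)
        rw [h2, h3, map_zero]
  refine ⟨LinearEquiv.ofBijective φ ⟨?_, ?_⟩⟩
  · rw [injective_iff_map_eq_zero]
    intro x hx
    refine DFinsupp.ext fun i => (f i).injective ?_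
    have := hφ x i
    rw [hx] at this
    refine this.symm.trans ?_
    exact (map_zero (f i)).symm
  · intro y
    induction y using DirectSum.induction_on with
    | zero => exact ⟨0, map_zero _⟩
    | add x y hx hy =>
      obtain ⟨x, rfl⟩ := hx
      obtain ⟨y, rfl⟩ := hy
      exact ⟨x + y, map_add _ _ _⟩
    | of j y =>
      obtain ⟨i, rfl⟩ := e.surjective j
      obtain ⟨x, rfl⟩ := (f i).surjective y
      exact ⟨DirectSum.lof A I M i x, DirectSum.toModule_lof A i x⟩

end Reindex

section Subquotient

variable {A : Type v} [CommRing A] {N N' T T' : Type u} [AddCommGroup N] [Module A N]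
  [AddCommGroup N'] [Module A N'] [AddCommGroup T] [Module A T] [AddCommGroup T'] [Module A T']

/-- A quotient of a submodule is a subquotient. -/
lemma isSubquotient_of_surjective (S' : Submodule A T) (f : S' →ₗ[A] N)
    (hf : Function.Surjective f) : HTor.IsSubquotient A N T := by
  refine ⟨(LinearMap.ker f).map S'.subtype, S', Submodule.map_subtype_le _ _, ?_⟩
  have h : Submodule.comap S'.subtype ((LinearMap.ker f).map S'.subtype) = LinearMap.ker f :=
    Submodule.comap_map_eq_of_injective S'.injective_subtype _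
  rw [h]
  exact ⟨(f.quotKerEquivOfSurjective hf).symm⟩

lemma isSubquotient_of_surjective' (f : T →ₗ[A] N) (hf : Function.Surjective f) :
    HTor.IsSubquotient A N T :=
  isSubquotient_of_surjective ⊤ (f ∘ₗ (⊤ : Submodule A T).subtype) (fun x => by
    obtain ⟨y, rfl⟩ := hf x
    exact ⟨⟨y, trivial⟩, rfl⟩)

/-- A subquotient is a quotient of a submodule. -/
lemma exists_surjective (h : HTor.IsSubquotient A N T) :
    ∃ (S' : Submodule A T) (f : S' →ₗ[A] N), Function.Surjective f := by
  obtain ⟨S, S', hS, ⟨e⟩⟩ := h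
  exact ⟨S', e.symm.toLinearMap ∘ₗ Submodule.mkQ _,
    e.symm.surjective.comp (Submodule.mkQ_surjective _)⟩

/-- Submodules of subquotients are subquotients. -/
lemma isSubquotient_of_injective (h : HTor.IsSubquotient A N T) (g : N' →ₗ[A] N)
    (hg : Function.Injective g) : HTor.IsSubquotient A N' T := by
  obtain ⟨S', f, hf⟩ := exists_surjective h
  let g' := LinearEquiv.ofInjective g hg
  let W : Submodule A S' := (LinearMap.range g).comap f
  have key : ∀ x : W.map S'.subtype, ∃ y : S', y ∈ W ∧ S'.subtype y = x.1 := fun x => x.2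
  let f' : W →ₗ[A] N' := g'.symm.toLinearMap ∘ₗ (f ∘ₗ W.subtype).codRestrict (LinearMap.range g)
    (fun x => x.2)
  have hf' : Function.Surjective f' := by
    refine g'.symm.surjective.comp ?_
    rintro ⟨y, hy⟩
    obtain ⟨x, hx⟩ := hf y
    exact ⟨⟨x, by change f x ∈ LinearMap.range g; rw [hx]; exact hy⟩, Subtype.ext hx⟩
  refine isSubquotient_of_surjective (W.map S'.subtype)
    (f' ∘ₗ (W.equivMapOfInjective S'.subtype S'.injective_subtype).symm.toLinearMap) ?_
  exact hf'.comp (W.equivMapOfInjective S'.subtype S'.injective_subtype).symm.surjective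

lemma isSubquotient_congr (h : HTor.IsSubquotient A N T) (e : T ≃ₗ[A] T') :
    HTor.IsSubquotient A N T' := by
  obtain ⟨S', f, hf⟩ := exists_surjective h
  refine isSubquotient_of_surjective (S'.map e.toLinearMap)
    (f ∘ₗ (S'.equivMapOfInjective e.toLinearMap e.injective).symm.toLinearMap) ?_
  exact hf.comp (S'.equivMapOfInjective e.toLinearMap e.injective).symm.surjective

end Subquotient

end Groth.Agent.Htor.H240.DSum
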