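import Groth.Agent.PerfB.RingKFlat
import Groth.Agent.Dcoh.KFlatFlip
import Groth.Prelude.Def_DRing2
import Mathlib.Algebra.Homology.Monoidal

/-!
# Tensoring quasi-isomorphisms with bounded above complexes of flat modules

`L ⊗ -` (and `- ⊗ L`) preserve quasi-isomorphisms of arbitrary complexes, for `L` a complex of flat modules
vanishing in large degrees.
-/

set_option autoImplicit false

universe u

open CategoryTheory CategoryTheory.Limits MonoidalCategory HomologicalComplex

namespace Groth.Agent.Htor.H240.FlatTens

open Groth.Agent.Dcoh.KFlatAbs Groth.Agent.Dcoh.KFlatSingle Groth.Agent.Dcoh.KFlatBdd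
  Groth.Agent.PerfB.RingKFlat Groth.Agent.Dcoh.KFlatFlip

variable {A : Type u} [CommRing A]

lemma isStrictlyLE_of_vanishesAbove (L : DRing.Cx A) {b : ℤ} (hL : DRing.VanishesAbove L b) :
    L.IsStrictlyLE b :=
  (CochainComplex.isStrictlyLE_iff L b).2 hL

lemma preservesColimits_flip_obj (M : ModuleCat.{u} A) :
    PreservesColimitsOfShape ℕ ((TR A).flip.obj M) := by
  have : PreservesColimitsOfShape ℕ (tensorLeft M) := inferInstance
  exact preservesColimitsOfShape_of_natIso (BraidedCategory.tensorLeftIsoTensorRight M)

lemma preservesHomology_tensorRight (M : ModuleCat.{u} A) (hM : Module.Flat A M) :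
    (tensorRight M).PreservesHomology := by
  have := preservesHomology_tensorLeft M hM
  exact preservesHomology_of_natIso (BraidedCategory.tensorLeftIsoTensorRight M)

/-- Bounded above complexes of flat modules are K-flat, in the first variable. -/
theorem kfl_flip (L : DRing.Cx A) (hL : DRing.TermwiseFlat L) {b : ℤ} (bL : DRing.VanishesAbove L b) :
    KFl (TR A).flip L := by
  have := isStrictlyLE_of_vanishesAbove L bL
  have h1 := preservesColimits_flip_obj (A := A)
  have h3 := hasExactColimitsOfShape_nat A
  exact kfl_of_isStrictlyLE L b (fun n => preservesHomology_tensorLeft _ (hL n))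

/-- Bounded above complexes of flat modules are K-flat, in the second variable. -/
theorem kfl (L : DRing.Cx A) (hL : DRing.TermwiseFlat L) {b : ℤ} (bL : DRing.VanishesAbove L b) :
    KFl (TR A) L := by
  have := isStrictlyLE_of_vanishesAbove L bL
  have h1 : ∀ M : ModuleCat.{u} A, PreservesColimitsOfShape ℕ ((TR A).obj M) := fun M =>
    (inferInstance : PreservesColimitsOfShape ℕ (tensorLeft M))
  have h3 := hasExactColimitsOfShape_nat A
  exact kfl_of_isStrictlyLE L b (fun n => preservesHomology_tensorRight _ (hL n))

/-- `L ⊗ η` is a quasi-isomorphism for `L` a bounded above complex of flat modules. -/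
theorem quasiIso_tensorHom_left (L : DRing.Cx A) (hL : DRing.TermwiseFlat L) {b : ℤ}
    (bL : DRing.VanishesAbove L b) {M Q : DRing.Cx A} (η : M ⟶ Q) [QuasiIso η] :
    QuasiIso (HomologicalComplex.tensorHom (𝟙 L) η) :=
  quasiIso_of_kfl_flip (T := TR A) (kfl_flip L hL bL) η

/-- `η ⊗ L` is a quasi-isomorphism for `L` a bounded above complex of flat modules. -/
theorem quasiIso_tensorHom_right (L : DRing.Cx A) (hL : DRing.TermwiseFlat L) {b : ℤ}
    (bL : DRing.VanishesAbove L b) {M Q : DRing.Cx A} (η : M ⟶ Q) [QuasiIso η] :
    QuasiIso (HomologicalComplex.tensorHom η (𝟙 L)) :=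
  KFl.quasiIso (T := TR A) (kfl L hL bL) η

end Groth.Agent.Htor.H240.FlatTens
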