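import Groth.Prelude.Def_HTor

/-!
# Elementwise calculus for homology of complexes of modules and for `HTor.tensorCx`
-/

set_option autoImplicit false

universe u

open CategoryTheory CategoryTheory.Limits MonoidalCategory HomologicalComplex

namespace Groth.Agent.Htor.H240.KunnEl

variable {A : Type u} [CommRing A]

section Homology

variable (K : DRing.Cx A)

lemma iCycles_injective (n : ℤ) : Function.Injective (K.iCycles n).hom :=
  (ModuleCat.mono_iff_injective _).1 inferInstance

lemma homologyπ_surjective (n : ℤ) : Function.Surjective (K.homologyπ n).hom :=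
  (ModuleCat.epi_iff_surjective _).1 inferInstance

lemma d_iCycles (n m : ℤ) (z : K.cycles n) : (K.d n m).hom ((K.iCycles n).hom z) = 0 := by
  rw [← LinearMap.comp_apply, ← ModuleCat.hom_comp, K.iCycles_d n m]
  rfl

/-- A cocycle comes from an element of `K.cycles n`. -/
lemma exists_cycle (n : ℤ) (x : K.X n) (hx : (K.d n (n + 1)).hom x = 0) :
    ∃ z : K.cycles n, (K.iCycles n).hom z = x := by
  let f : ModuleCat.of A (LinearMap.ker (K.d n (n + 1)).hom) ⟶ K.X n :=
    ModuleCat.ofHom (LinearMap.ker (K.d n (n + 1)).hom).subtype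
  have hf : f ≫ K.d n (n + 1) = 0 := by
    ext y
    exact y.2
  refine ⟨(K.liftCycles f (n + 1) (by simp) hf).hom ⟨x, hx⟩, ?_⟩
  rw [← LinearMap.comp_apply, ← ModuleCat.hom_comp, K.liftCycles_i]
  rfl

lemma iCycles_toCycles (n m : ℤ) (y : K.X n) :
    (K.iCycles m).hom ((K.toCycles n m).hom y) = (K.d n m).hom y := by
  rw [← LinearMap.comp_apply, ← ModuleCat.hom_comp, K.toCycles_i]

lemma homologyπ_toCycles (n m : ℤ) (y : K.X n) :
    (K.homologyπ m).hom ((K.toCycles n m).hom y) = 0 := by
  rw [← LinearMap.comp_apply, ← ModuleCat.hom_comp, K.toCycles_comp_homologyπ]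
  rfl

/-- The kernel of `K.cycles n → K.homology n` consists of the coboundaries. -/
lemma homologyπ_eq_zero_iff (n m : ℤ) (h : n + 1 = m) (z : K.cycles m) :
    (K.homologyπ m).hom z = 0 ↔ ∃ y : K.X n, (K.toCycles n m).hom y = z := by
  have hex : (ShortComplex.mk (K.toCycles n m) (K.homologyπ m) (by simp)).Exact :=
    ShortComplex.exact_of_g_is_cokernel _ (K.homologyIsCokernel n m (by simp; lia))
  have := (ShortComplex.ShortExact.moduleCat_exact_iff_function_exact _).1 hex
  constructor
  · intro hz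
    exact (this z).1 hz
  · rintro ⟨y, rfl⟩
    exact homologyπ_toCycles K n m y

lemma homologyπ_eq_zero_iff' (n m : ℤ) (h : n + 1 = m) (z : K.cycles m) :
    (K.homologyπ m).hom z = 0 ↔ ∃ y : K.X n, (K.d n m).hom y = (K.iCycles m).hom z := by
  rw [homologyπ_eq_zero_iff K n m h]
  constructor
  · rintro ⟨y, rfl⟩
    exact ⟨y, (iCycles_toCycles K n m y).symm⟩
  · rintro ⟨y, hy⟩
    exact ⟨y, iCycles_injective K m (by rw [iCycles_toCycles, hy])⟩

variable {K} {K' : DRing.Cx A} (f : K ⟶ K')

lemma homologyMap_π (n : ℤ) (z : K.cycles n) :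
    (homologyMap f n).hom ((K.homologyπ n).hom z) = (K'.homologyπ n).hom ((cyclesMap f n).hom z) := by
  rw [← LinearMap.comp_apply, ← ModuleCat.hom_comp, homologyπ_naturality]
  rfl

lemma iCycles_cyclesMap (n : ℤ) (z : K.cycles n) :
    (K'.iCycles n).hom ((cyclesMap f n).hom z) = (f.f n).hom ((K.iCycles n).hom z) := by
  rw [← LinearMap.comp_apply, ← ModuleCat.hom_comp, cyclesMap_i]
  rfl

lemma f_d (n m : ℤ) (x : K.X n) : (f.f m).hom ((K.d n m).hom x) = (K'.d n m).hom ((f.f n).hom x) := by
  rw [← LinearMap.comp_apply, ← ModuleCat.hom_comp, ← f.comm]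
  rfl

end Homology

section Tensor

variable (L M : DRing.Cx A)

/-- The inclusion of the summand `L^i ⊗ M^j` of `(L ⊗ M)^n`. -/
noncomputable def ι (i j n : ℤ) (h : i + j = n) :
    TensorProduct A (L.X i) (M.X j) →ₗ[A] (HTor.tensorCx L M).X n :=
  (HomologicalComplex.ιTensorObj L M i j n h).hom

lemma d_ι (i j n i' j' n' : ℤ) (h : i + j = n) (hi : i + 1 = i') (hj : j + 1 = j') (hn : n + 1 = n')
    (x : TensorProduct A (L.X i) (M.X j)) :
    ((HTor.tensorCx L M).d n n').hom (ι L M i j n h x) =
      ι L M i' j n' (by lia) (LinearMap.rTensor (M.X j) (L.d i i').hom x) +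
        (i.negOnePow : ℤˣ) • ι L M i j' n' (by lia) (LinearMap.lTensor (L.X i) (M.d j j').hom x) := by
  have hd : HomologicalComplex.ιTensorObj L M i j n h ≫ (HTor.tensorCx L M).d n n' =
      (L.d i i' ▷ M.X j) ≫ HomologicalComplex.ιTensorObj L M i' j n' (by lia) +
        (i.negOnePow : ℤˣ) • ((L.X i ◁ M.d j j') ≫ HomologicalComplex.ιTensorObj L M i j' n' (by lia)) := by
    rw [mapBifunctor.d_eq, Preadditive.comp_add, mapBifunctor.ι_D₁, mapBifunctor.ι_D₂,
      mapBifunctor.d₁_eq L M (curriedTensor _) (ComplexShape.up ℤ) (show (ComplexShape.up ℤ).Rel i i' from hi)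
        j n' (by change i' + j = n'; lia),
      mapBifunctor.d₂_eq L M (curriedTensor _) (ComplexShape.up ℤ) i (show (ComplexShape.up ℤ).Rel j j' from hj)
        n' (by change i + j' = n'; lia)]
    simp
  have := congrArg (fun φ => φ.hom x) hd
  exact this

end Tensor

end Groth.Agent.Htor.H240.KunnEl
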