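import Groth.Agent.Htor.H240.KunnStep

/-!
# The Künneth filtration
-/

set_option autoImplicit false

universe u

open CategoryTheory CategoryTheory.Limits MonoidalCategory HomologicalComplex DirectSum

namespace Groth.Agent.Htor.H240.KunnFilt

open KunnEl KunnMap DSum KunnFlat KunnStep Groth.Agent.CycA.TorShift

variable {A : Type u} [CommRing A]

section Tor

variable (L : DRing.Cx A) {M M' P : DRing.Cx A} (i : M' ⟶ P) (p : P ⟶ M)
  (hP : ∀ j, Module.Projective A (P.homology j))
  (hi : ∀ j, Function.Injective (homologyMap i j).hom)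
  (hex : ∀ j, Function.Exact (homologyMap i j).hom (homologyMap p j).hom)
  (hp : ∀ j, Function.Surjective (homologyMap p j).hom)

/-- reindexing -/
def idx (n : ℤ) (q : ℕ) : {ij : ℤ × ℤ // ij.1 + ij.2 - (q : ℤ) = n + 1} ≃
    {ij : ℤ × ℤ // ij.1 + ij.2 - ((q + 1 : ℕ) : ℤ) = n} where
  toFun x := ⟨x.1, by have := x.2; push_cast; lia⟩
  invFun x := ⟨x.1, by have := x.2; push_cast at this; lia⟩
  left_inv _ := rfl
  right_inv _ := rfl

/-- reindexing -/
def idx₀ (n : ℤ) : {ij : ℤ × ℤ // ij.1 + ij.2 - ((0 + 1 : ℕ) : ℤ) = n} ≃ HTor.Antidiag (n + 1) where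
  toFun x := ⟨x.1, by have := x.2; push_cast at this; lia⟩
  invFun x := ⟨x.1, by have := x.2; push_cast; lia⟩
  left_inv _ := rfl
  right_inv _ := rfl

include hP hi hex hp

/-- Dimension shifting for the sums of Tor modules. -/
lemma nonempty_torSum (n : ℤ) (q : ℕ) :
    Nonempty (HTor.TorSum L M' (n + 1) (q + 1) ≃ₗ[A] HTor.TorSum L M n (q + 2)) := by
  refine nonempty_linearEquiv (idx n (q + 1)) (fun ij => ?_)
  have := hP ij.1.2
  obtain ⟨e⟩ := shiftR (homologyMap i ij.1.2).hom (homologyMap p ij.1.2).hom (hi _) (hex _) (hp _) q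
    (L.homology ij.1.1)
  exact ⟨e.symm⟩

/-- The sum of the `Tor_1` is the kernel of `⊕ H^i(L) ⊗ H^j(M') → ⊕ H^i(L) ⊗ H^j(P)`. -/
lemma nonempty_torSum_one (n : ℤ) :
    Nonempty (HTor.TorSum L M n (0 + 1) ≃ₗ[A] LinearMap.ker (sumMap L i (n + 1))) := by
  have h1 : Nonempty (HTor.TorSum L M n (0 + 1) ≃ₗ[A]
      DirectSum (HTor.Antidiag (n + 1)) (fun ij =>
        LinearMap.ker (LinearMap.lTensor (L.homology ij.1.1) (homologyMap i ij.1.2).hom))) := by
    refine nonempty_linearEquiv (idx₀ n) (fun ij => ?_)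
    have := hP ij.1.2
    exact shiftR_one (homologyMap i ij.1.2).hom (homologyMap p ij.1.2).hom (hi _) (hex _) (hp _)
      (L.homology ij.1.1)
  obtain ⟨e⟩ := h1
  let j : DirectSum (HTor.Antidiag (n + 1)) (fun ij =>
        LinearMap.ker (LinearMap.lTensor (L.homology ij.1.1) (homologyMap i ij.1.2).hom)) →ₗ[A]
      HTor.KunnethSum L M' (n + 1) :=
    DirectSum.lmap (fun ij : HTor.Antidiag (n + 1) =>
      (LinearMap.ker (LinearMap.lTensor (L.homology ij.1.1) (homologyMap i ij.1.2).hom)).subtype)
  have hj : Function.Injective j := lmap_injective _ fun ij => Subtype.val_injective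
  have hex' : Function.Exact j (sumMap L i (n + 1)) := exact_lmap _ _ (fun ij => by
    intro x
    rw [← LinearMap.mem_ker, Set.mem_range]
    constructor
    · intro hx
      exact ⟨⟨x, hx⟩, rfl⟩
    · rintro ⟨x, rfl⟩
      exact x.2)
  have hr : LinearMap.range j = LinearMap.ker (sumMap L i (n + 1)) := by
    ext x
    exact (hex' x).symm
  exact ⟨e.trans ((LinearEquiv.ofInjective j hj).trans (LinearEquiv.ofEq _ _ hr))⟩

end Tor

/-- The property of the filtration. -/
def Good (L M : DRing.Cx A) (n : ℤ) (k : ℕ) : Prop :=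
  ∃ F : ℕ → Submodule A ((HTor.tensorCx L M).homology n),
    F 0 = LinearMap.range (Φ L M n) ∧ Monotone F ∧ F k = ⊤ ∧
      ∀ p : ℕ, HTor.IsSubquotient A (HTor.grSucc F p) (HTor.TorSum L M n (p + 1))

lemma isSubquotient_of_subsingleton {N T : Type u} [AddCommGroup N] [Module A N] [AddCommGroup T]
    [Module A T] [Subsingleton N] : HTor.IsSubquotient A N T :=
  isSubquotient_of_surjective' 0 (fun _ => ⟨0, Subsingleton.elim _ _⟩)

lemma good_zero (L M : DRing.Cx A) {a b : ℤ} (hL : DRing.VanishesAbove L a)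
    (hM : DRing.VanishesAbove M b) (n : ℤ) (hn : a + b < n) : Good L M n 0 := by
  have := subsingleton_homology L M hL hM n hn
  refine ⟨fun _ => ⊤, Subsingleton.elim _ _, fun _ _ _ => le_refl _, rfl, fun p => ?_⟩
  have h1 : Subsingleton (HTor.grSucc
    (fun _ => (⊤ : Submodule A ((HTor.tensorCx L M).homology n))) p) := by
    unfold HTor.grSucc
    infer_instance
  exact isSubquotient_of_subsingleton

theorem good (L : DRing.Cx A) (hL : DRing.TermwiseFlat L) {a : ℤ} (bL : DRing.VanishesAbove L a)
    {b : ℤ} (k : ℕ) : ∀ (M : DRing.Cx A) (_ : DRing.VanishesAbove M b) (n : ℤ) (_ : a + b < n + k),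
      Good L M n k := by
  induction k with
  | zero => exact fun M hM n hn => good_zero L M bL hM n (by simpa using hn)
  | succ k ih =>
    intro M hM n hn
    obtain ⟨M', P, i, p, hM', hP, hi, hex, hp, hΦ, hδ⟩ := exists_step L hL bL M hM
    obtain ⟨δ, h1, h2, -⟩ := hδ n
    obtain ⟨F', hF₀, hF, hFk, hgr⟩ := ih M' hM' (n + 1) (by push_cast at hn; lia)
    let F : ℕ → Submodule A ((HTor.tensorCx L M).homology n) := fun q =>
      match q with
      | 0 => LinearMap.ker δ
      | q + 1 => (F' q).comap δ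
    have hker : ∀ q, LinearMap.ker δ ≤ F q := by
      intro q
      cases q with
      | zero => exact le_refl _
      | succ q =>
        intro x hx
        change δ x ∈ F' q
        rw [LinearMap.mem_ker.1 hx]
        exact zero_mem _
    refine ⟨F, ?_, ?_, ?_, ?_⟩
    · -- the bottom piece
      ext x
      constructor
      · intro hx
        obtain ⟨y, rfl⟩ := (h1 x).1 hx
        obtain ⟨z, rfl⟩ := (hΦ n).2 y
        rw [homologyMap_Φ]
        exact ⟨_, rfl⟩
      · rintro ⟨y, rfl⟩
        have hs : Function.Surjective (sumMap L p n) :=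
          lmap_surjective _ fun ij => LinearMap.lTensor_surjective _ (hp ij.1.2)
        obtain ⟨z, rfl⟩ := hs y
        rw [← homologyMap_Φ]
        exact (h1 _).2 ⟨_, rfl⟩
    · refine monotone_nat_of_le_succ fun q => ?_
      cases q with
      | zero => exact hker 1
      | succ q => exact Submodule.comap_mono (hF (Nat.le_succ q))
    · change (F' k).comap δ = ⊤
      rw [hFk, Submodule.comap_top]
    · intro q
      cases q with
      | zero =>
        obtain ⟨e⟩ := nonempty_torSum_one L i p hP hi hex hp n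
        refine isSubquotient_congr (T := LinearMap.ker (sumMap L i (n + 1))) ?_ e.symm
        -- elements of `ker (sumMap L i)` give elements of `F 1 / F 0`
        have key : ∀ x : LinearMap.ker (sumMap L i (n + 1)), ∃ y : (HTor.tensorCx L M).homology n,
            δ y = Φ L M' (n + 1) x.1 := by
          rintro ⟨x, hx⟩
          refine (h2 _).1 ?_
          rw [homologyMap_Φ, LinearMap.mem_ker.1 hx, map_zero]
        -- `F 1 / F 0` embeds in `H^{n+1}(L ⊗ M')`
        let g : HTor.grSucc F 0 →ₗ[A] (HTor.tensorCx L M').homology (n + 1) :=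
          (Submodule.comap (F (0 + 1)).subtype (F 0)).liftQ (δ ∘ₗ (F (0 + 1)).subtype)
            (fun x hx => hx)
        have hg : Function.Injective g := by
          rw [← LinearMap.ker_eq_bot]
          refine Submodule.ker_liftQ_eq_bot _ _ _ (fun x hx => hx)
        refine isSubquotient_of_injective (N := LinearMap.range
          (Φ L M' (n + 1) ∘ₗ (LinearMap.ker (sumMap L i (n + 1))).subtype)) ?_
          (g.codRestrict _ ?_) ?_
        · exact isSubquotient_of_surjective' _ (LinearMap.surjective_rangeRestrict _)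
        · intro x
          obtain ⟨⟨x, hx⟩, rfl⟩ := Submodule.mkQ_surjective _ x
          have hx' : δ x ∈ F' 0 := hx
          rw [hF₀] at hx'
          obtain ⟨y, hy⟩ := hx'
          refine ⟨⟨y, ?_⟩, hy⟩
          rw [LinearMap.mem_ker]
          apply (hΦ (n + 1)).1
          rw [← homologyMap_Φ, hy, map_zero]
          exact (h2 _).2 ⟨x, rfl⟩
        · intro x y hxy
          exact hg (congrArg Subtype.val hxy)
      | succ q =>
        obtain ⟨e⟩ := nonempty_torSum L i p hP hi hex hp n q
        refine isSubquotient_congr ?_ e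
        refine isSubquotient_of_injective (hgr q)
          (Submodule.mapQ _ _ (δ.restrict (p := F (q + 1 + 1)) (q := F' (q + 1)) (fun x hx => hx)) ?_) ?_
        · intro x hx
          exact hx
        · rw [← LinearMap.ker_eq_bot, Submodule.ker_mapQ]
          rw [eq_bot_iff]
          rintro _ ⟨x, hx, rfl⟩
          rw [Submodule.mem_bot, Submodule.mkQ_apply, Submodule.Quotient.mk_eq_zero]
          exact hx

/-- **Künneth filtration**. -/
theorem exists_filtration (L M : DRing.Cx A) (hL : DRing.TermwiseFlat L)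
    (bL : ∃ b : ℤ, DRing.VanishesAbove L b) (bM : ∃ b : ℤ, DRing.VanishesAbove M b) (n : ℤ) :
    ∃ (N : ℕ) (F : ℕ → Submodule A ((HTor.tensorCx L M).homology n))
      (Φ : HTor.KunnethSum L M n →ₗ[A] (HTor.tensorCx L M).homology n),
      HTor.IsKunnethMap L M n Φ ∧ F 0 = LinearMap.range Φ ∧ Monotone F ∧ F N = ⊤ ∧
        ∀ p : ℕ, HTor.IsSubquotient A (HTor.grSucc F p) (HTor.TorSum L M n (p + 1)) := by
  obtain ⟨a, bL⟩ := bL
  obtain ⟨b, bM⟩ := bM
  obtain ⟨F, h1, h2, h3, h4⟩ := good L hL bL (b := b) (a + b + 1 - n).toNat M bM n (by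
    have := Int.self_le_toNat (a + b + 1 - n)
    lia)
  exact ⟨_, F, Φ L M n, isKunnethMap_Φ L M n, h1, h2, h3, h4⟩

end Groth.Agent.Htor.H240.KunnFilt
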