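import Groth.Agent.Htor.H240.KunnMap
import Groth.Agent.Htor.H240.DSum
import Groth.Agent.Htor.H240.FlatTens
import Mathlib.RingTheory.Flat.Basic
import Mathlib.RingTheory.Flat.Stability

/-!
# The Künneth map is bijective when the second complex has zero differential and flat terms
-/

set_option autoImplicit false

universe u

open CategoryTheory CategoryTheory.Limits MonoidalCategory HomologicalComplex DirectSum

namespace Groth.Agent.Htor.H240.KunnFlat

open KunnEl KunnMap DSum

variable {A : Type u} [CommRing A] (L M : DRing.Cx A)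

/-- The summands of `(L ⊗ M)^n`. -/
abbrev TSum (n : ℤ) : Type u :=
  DirectSum (HTor.Antidiag n) fun ij => TensorProduct A (L.X ij.1.1) (M.X ij.1.2)

/-- `⊕ L^i ⊗ M^j → (L ⊗ M)^n` -/
noncomputable def T (n : ℤ) : TSum L M n →ₗ[A] (HTor.tensorCx L M).X n :=
  DirectSum.toModule A (HTor.Antidiag n) _ (fun ij => ι L M ij.1.1 ij.1.2 n ij.2)

lemma T_lof (n : ℤ) (ij : HTor.Antidiag n) (x : TensorProduct A (L.X ij.1.1) (M.X ij.1.2)) :
    T L M n (DirectSum.lof A (HTor.Antidiag n) _ ij x) = ι L M ij.1.1 ij.1.2 n ij.2 x := by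
  rw [T]
  exact DirectSum.toModule_lof (φ := fun ij : HTor.Antidiag n => ι L M ij.1.1 ij.1.2 n ij.2) A ij x

/-- The inverse. -/
noncomputable def Tinv (n : ℤ) : (HTor.tensorCx L M).X n ⟶ ModuleCat.of A (TSum L M n) :=
  mapBifunctorDesc (K₁ := L) (K₂ := M) (F := curriedTensor (ModuleCat.{u} A)) (c := ComplexShape.up ℤ)
    (fun i j h => ModuleCat.ofHom (X := TensorProduct A (L.X i) (M.X j))
      (DirectSum.lof A (HTor.Antidiag n) (fun ij => TensorProduct A (L.X ij.1.1) (M.X ij.1.2))
        ⟨(i, j), h⟩))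

lemma Tinv_ι (i j n : ℤ) (h : i + j = n) (x : TensorProduct A (L.X i) (M.X j)) :
    (Tinv L M n).hom (ι L M i j n h x) =
      DirectSum.lof A (HTor.Antidiag n) (fun ij => TensorProduct A (L.X ij.1.1) (M.X ij.1.2))
        ⟨(i, j), h⟩ x := by
  have e := ι_mapBifunctorDesc (K₁ := L) (K₂ := M) (F := curriedTensor (ModuleCat.{u} A))
    (c := ComplexShape.up ℤ)
    (fun i j h => ModuleCat.ofHom (X := TensorProduct A (L.X i) (M.X j))
      (DirectSum.lof A (HTor.Antidiag n) (fun ij => TensorProduct A (L.X ij.1.1) (M.X ij.1.2))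
        ⟨(i, j), h⟩)) i j h
  exact congrArg (fun φ => φ.hom x) e

lemma Tinv_T (n : ℤ) (x : TSum L M n) : (Tinv L M n).hom (T L M n x) = x := by
  have : (Tinv L M n).hom ∘ₗ T L M n = LinearMap.id := by
    refine DirectSum.linearMap_ext _ (fun ij => ?_)
    refine LinearMap.ext fun x => ?_
    rw [LinearMap.comp_apply, LinearMap.comp_apply, T_lof, Tinv_ι]
    rfl
  exact LinearMap.congr_fun this x

lemma T_Tinv (n : ℤ) (x : (HTor.tensorCx L M).X n) : T L M n ((Tinv L M n).hom x) = x := by
  have : Tinv L M n ≫ ModuleCat.ofHom (T L M n) = 𝟙 _ := by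
    refine mapBifunctor.hom_ext (fun i j h => ?_)
    ext1
    refine LinearMap.ext fun x => ?_
    change T L M n ((Tinv L M n).hom (ι L M i j n h x)) = ι L M i j n h x
    rw [Tinv_ι, T_lof]
  exact congrArg (fun φ => φ.hom x) this

lemma T_injective (n : ℤ) : Function.Injective (T L M n) :=
  Function.LeftInverse.injective (Tinv_T L M n)

lemma T_surjective (n : ℤ) : Function.Surjective (T L M n) :=
  Function.RightInverse.surjective (T_Tinv L M n)

/-- `iCycles ⊗ iCycles` -/
noncomputable abbrev ii (i j : ℤ) : TensorProduct A (L.cycles i) (M.cycles j) →ₗ[A]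
    TensorProduct A (L.X i) (M.X j) :=
  TensorProduct.map (L.iCycles i).hom (M.iCycles j).hom

/-- The summands of cycles. -/
abbrev ZSum (n : ℤ) : Type u :=
  DirectSum (HTor.Antidiag n) fun ij => TensorProduct A (L.cycles ij.1.1) (M.cycles ij.1.2)

/-- `⊕ Z^i ⊗ Z^j → Z^n(L ⊗ M)` -/
noncomputable def K (n : ℤ) : ZSum L M n →ₗ[A] (HTor.tensorCx L M).cycles n :=
  DirectSum.toModule A (HTor.Antidiag n) _ (fun ij => κ L M ij.1.1 ij.1.2 n ij.2)

lemma K_lof (n : ℤ) (ij : HTor.Antidiag n) (x : TensorProduct A (L.cycles ij.1.1) (M.cycles ij.1.2)) :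
    K L M n (DirectSum.lof A (HTor.Antidiag n) _ ij x) = κ L M ij.1.1 ij.1.2 n ij.2 x := by
  rw [K]
  exact DirectSum.toModule_lof (φ := fun ij : HTor.Antidiag n => κ L M ij.1.1 ij.1.2 n ij.2) A ij x

/-- `⊕ π ⊗ π` -/
noncomputable def Pi (n : ℤ) : ZSum L M n →ₗ[A] HTor.KunnethSum L M n :=
  DirectSum.lmap (fun ij : HTor.Antidiag n => ππ L M ij.1.1 ij.1.2)

lemma Pi_surjective (n : ℤ) : Function.Surjective (Pi L M n) :=
  lmap_surjective _ (fun ij => ππ_surjective L M _ _)

lemma Φ_Pi (n : ℤ) (x : ZSum L M n) :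
    Φ L M n (Pi L M n x) = ((HTor.tensorCx L M).homologyπ n).hom (K L M n x) := by
  have : Φ L M n ∘ₗ Pi L M n = ((HTor.tensorCx L M).homologyπ n).hom ∘ₗ K L M n := by
    refine DirectSum.linearMap_ext _ (fun ij => ?_)
    refine LinearMap.ext fun x => ?_
    simp only [LinearMap.comp_apply]
    rw [K_lof, Pi, DirectSum.lmap_lof, Φ_lof, φ_ππ]
  exact LinearMap.congr_fun this x

lemma iCycles_K (n : ℤ) (x : ZSum L M n) :
    ((HTor.tensorCx L M).iCycles n).hom (K L M n x) =
      T L M n (DirectSum.lmap (fun ij : HTor.Antidiag n => ii L M ij.1.1 ij.1.2) x) := by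
  have : ((HTor.tensorCx L M).iCycles n).hom ∘ₗ K L M n =
      T L M n ∘ₗ DirectSum.lmap (fun ij : HTor.Antidiag n => ii L M ij.1.1 ij.1.2) := by
    refine DirectSum.linearMap_ext _ (fun ij => ?_)
    refine LinearMap.ext fun x => ?_
    simp only [LinearMap.comp_apply]
    rw [K_lof, DirectSum.lmap_lof, T_lof, iCycles_κ]
  exact LinearMap.congr_fun this x

section Zero

variable (hM : ∀ i j, M.d i j = 0)

include hM

/-- The differential of `L ⊗ M` for `M` with zero differential. -/
lemma Tinv_d_T (n n' : ℤ) (hn : n + 1 = n') (x : TSum L M n) (i j i' : ℤ) (hij : i + j = n)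
    (hi : i + 1 = i') :
    ((Tinv L M n').hom (((HTor.tensorCx L M).d n n').hom (T L M n x))) ⟨(i', j), by lia⟩ =
      LinearMap.rTensor (M.X j) (L.d i i').hom (x ⟨(i, j), hij⟩) := by
  induction x using DirectSum.induction_on with
  | zero => simp
  | add x y hx hy =>
    rw [map_add, map_add, map_add, DirectSum.add_apply, DirectSum.add_apply, map_add, hx, hy]
  | of ab x =>
    obtain ⟨⟨a, b⟩, hab⟩ := ab
    change ((Tinv L M n').hom (((HTor.tensorCx L M).d n n').hom (T L M n
      (DirectSum.lof A (HTor.Antidiag n) _ ⟨(a, b), hab⟩ x)))) ⟨(i', j), _⟩ =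
      LinearMap.rTensor (M.X j) (L.d i i').hom
        ((DirectSum.lof A (HTor.Antidiag n) (fun ij => TensorProduct A (L.X ij.1.1) (M.X ij.1.2))
          ⟨(a, b), hab⟩ x) ⟨(i, j), hij⟩)
    rw [T_lof, d_ι L M a b n (a + 1) (b + 1) n' hab rfl rfl hn, hM b (b + 1), ModuleCat.hom_zero,
      LinearMap.lTensor_zero, LinearMap.zero_apply, map_zero, smul_zero, add_zero, Tinv_ι]
    by_cases h : a = i
    · subst h
      obtain rfl : b = j := by dsimp at hab; lia
      subst hi
      rw [DirectSum.lof_apply, DirectSum.lof_apply]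
    · have h2 : (DirectSum.lof A (HTor.Antidiag n)
          (fun ij => TensorProduct A (L.X ij.1.1) (M.X ij.1.2)) ⟨(a, b), hab⟩ x) ⟨(i, j), hij⟩ = 0 :=
        DirectSum.of_eq_of_ne _ _ _ (fun e => h (by simpa using (congrArg (fun t => t.1.1) e).symm))
      rw [h2, map_zero]
      exact DirectSum.of_eq_of_ne _ _ _ (fun e => h (by
        have := (congrArg (fun t => t.1.1) e)
        dsimp at this
        lia))

lemma iCycles_bijective (j : ℤ) : Function.Bijective (M.iCycles j).hom := by
  refine ⟨iCycles_injective M j, fun x => ?_⟩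
  obtain ⟨z, hz⟩ := exists_cycle M j x (by rw [hM]; rfl)
  exact ⟨z, hz⟩

variable (hfl : ∀ j, Module.Flat A (M.X j))

include hfl

lemma flat_cycles (j : ℤ) : Module.Flat A (M.cycles j) := by
  have := hfl j
  exact Module.Flat.of_linearEquiv (LinearEquiv.ofBijective _ (iCycles_bijective M hM j))

lemma ii_injective (i j : ℤ) : Function.Injective (ii L M i j) := by
  have := hfl j
  have := flat_cycles M hM hfl j
  have e : ii L M i j = LinearMap.lTensor (L.X i) (M.iCycles j).hom ∘ₗ
      LinearMap.rTensor (M.cycles j) (L.iCycles i).hom := by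
    rw [LinearMap.lTensor_comp_rTensor]
  rw [e, LinearMap.coe_comp]
  refine Function.Injective.comp ?_ (Module.Flat.rTensor_preserves_injective_linearMap _
    (iCycles_injective L i))
  exact (LinearEquiv.lTensor (L.X i)
    (LinearEquiv.ofBijective (M.iCycles j).hom (iCycles_bijective M hM j))).injective

/-- `Z^i(L) ⊗ M^j → L^i ⊗ M^j → L^{i+1} ⊗ M^j` is exact. -/
lemma exists_ii (i j i' : ℤ) (hi : i + 1 = i') (x : TensorProduct A (L.X i) (M.X j))
    (hx : LinearMap.rTensor (M.X j) (L.d i i').hom x = 0) : ∃ z, ii L M i j z = x := by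
  subst hi
  have := hfl j
  have h1 : Function.Exact (L.iCycles i).hom (L.d i (i + 1)).hom := by
    intro y
    constructor
    · intro hy
      exact exists_cycle L i y hy
    · rintro ⟨z, rfl⟩
      exact d_iCycles L i (i + 1) z
  obtain ⟨y, hy⟩ := (Module.Flat.rTensor_exact (M.X j) h1 x).1 hx
  obtain ⟨z, hz⟩ := (LinearEquiv.lTensor (L.cycles i)
    (LinearEquiv.ofBijective (M.iCycles j).hom (iCycles_bijective M hM j))).surjective y
  refine ⟨z, ?_⟩
  rw [← hy, ← hz]
  have e : ii L M i j = LinearMap.rTensor (M.X j) (L.iCycles i).hom ∘ₗ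
      LinearMap.lTensor (L.cycles i) (M.iCycles j).hom := by
    rw [LinearMap.rTensor_comp_lTensor]
  rw [e]
  rfl

/-- `⊕ Z^i(L) ⊗ Z^j(M) → Z^n(L ⊗ M)` is surjective if `M` is flat with zero differential. -/
lemma K_surjective (n : ℤ) : Function.Surjective (K L M n) := by
  intro w
  obtain ⟨x, hx⟩ := T_surjective L M n (((HTor.tensorCx L M).iCycles n).hom w)
  obtain ⟨z, hz⟩ := exists_lmap_eq (fun ij : HTor.Antidiag n => ii L M ij.1.1 ij.1.2) x (fun ij => by
    obtain ⟨⟨i, j⟩, hij⟩ := ij
    refine exists_ii L M hM hfl i j (i + 1) rfl _ ?_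
    have := Tinv_d_T L M hM n (n + 1) rfl x i j (i + 1) hij rfl
    rw [← this, hx, d_iCycles, map_zero]
    rfl)
  refine ⟨z, iCycles_injective _ n ?_⟩
  rw [iCycles_K, hz, hx]

/-- **The Künneth map is bijective** if `M` has flat terms and zero differential (`L` arbitrary). -/
theorem Φ_bijective (n : ℤ) : Function.Bijective (Φ L M n) := by
  constructor
  · rw [injective_iff_map_eq_zero]
    intro v hv
    obtain ⟨z, rfl⟩ := Pi_surjective L M n v
    rw [Φ_Pi, homologyπ_eq_zero_iff' _ (n - 1) n (by lia)] at hv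
    obtain ⟨y, hy⟩ := hv
    obtain ⟨x, rfl⟩ := T_surjective L M (n - 1) y
    rw [iCycles_K] at hy
    refine DFinsupp.ext fun ij => ?_
    obtain ⟨⟨i, j⟩, hij⟩ := ij
    have h1 := Tinv_d_T L M hM (n - 1) n (by lia) x (i - 1) j i (by dsimp at hij; lia) (by lia)
    rw [hy, Tinv_T, DirectSum.lmap_apply] at h1
    change ππ L M i j (z ⟨(i, j), hij⟩) = 0
    have hzx : ∃ t : TensorProduct A (L.X (i - 1)) (M.cycles j),
        LinearMap.rTensor (M.cycles j) (L.toCycles (i - 1) i).hom t = z ⟨(i, j), hij⟩ := by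
      obtain ⟨t, ht⟩ := (LinearEquiv.lTensor (L.X (i - 1))
        (LinearEquiv.ofBijective (M.iCycles j).hom (iCycles_bijective M hM j))).surjective
          (x ⟨(i - 1, j), by dsimp at hij; lia⟩)
      refine ⟨t, ii_injective L M hM hfl i j ?_⟩
      refine Eq.trans ?_ h1.symm
      rw [← ht]
      clear ht h1
      induction t using TensorProduct.induction_on with
      | zero => simp
      | add x y hx hy => simp only [map_add, hx, hy]
      | tmul a b =>
        simp only [LinearMap.rTensor_tmul, TensorProduct.map_tmul, LinearEquiv.lTensor_tmul]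
        rw [iCycles_toCycles]
        rfl
    obtain ⟨t, ht⟩ := hzx
    rw [← ht]
    clear ht
    induction t using TensorProduct.induction_on with
    | zero => simp
    | add x y hx hy => rw [map_add, map_add, hx, hy, add_zero]
    | tmul a b =>
      rw [LinearMap.rTensor_tmul, TensorProduct.map_tmul, homologyπ_toCycles, TensorProduct.zero_tmul]
  · intro h
    obtain ⟨w, rfl⟩ := homologyπ_surjective _ n h
    obtain ⟨z, rfl⟩ := K_surjective L M hM hfl n w
    exact ⟨Pi L M n z, Φ_Pi L M n z⟩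

end Zero

/-- The Künneth map is bijective if `M` receives a quasi-isomorphism from a complex with flat terms and zero
differential, and `L` is a bounded above complex of flat modules. -/
theorem Φ_bijective_of_quasiIso (hL : DRing.TermwiseFlat L) {b : ℤ} (bL : DRing.VanishesAbove L b)
    {Q P : DRing.Cx A} (s : Q ⟶ P) [QuasiIso s] (hQ : ∀ i j, Q.d i j = 0)
    (hfl : ∀ j, Module.Flat A (Q.X j)) (n : ℤ) : Function.Bijective (Φ L P n) := by
  have h1 : QuasiIso (tMap L s) := FlatTens.quasiIso_tensorHom_left L hL bL s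
  have h2 : Function.Bijective (homologyMap (tMap L s) n).hom :=
    (ConcreteCategory.isIso_iff_bijective (homologyMap (tMap L s) n)).1 inferInstance
  have h3 : Function.Bijective (sumMap L s n) := by
    have : ∀ ij : HTor.Antidiag n, Function.Bijective
        (LinearMap.lTensor (L.homology ij.1.1) (homologyMap s ij.1.2).hom) := fun ij =>
      (LinearEquiv.lTensor (L.homology ij.1.1) (LinearEquiv.ofBijective (homologyMap s ij.1.2).hom
        ((ConcreteCategory.isIso_iff_bijective (homologyMap s ij.1.2)).1 inferInstance))).bijective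
    exact ⟨lmap_injective _ fun ij => (this ij).1, lmap_surjective _ fun ij => (this ij).2⟩
  have h4 : (homologyMap (tMap L s) n).hom ∘ Φ L Q n = Φ L P n ∘ sumMap L s n :=
    funext fun x => homologyMap_Φ s n x
  have h5 : Function.Bijective (Φ L P n ∘ sumMap L s n) := by
    rw [← h4]
    exact h2.comp (Φ_bijective L Q hQ hfl n)
  exact (Function.Bijective.of_comp_iff _ h3).1 h5

end Groth.Agent.Htor.H240.KunnFlat
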