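import Groth.Agent.Htor.H240.KunnEl
import Mathlib.LinearAlgebra.TensorProduct.RightExactness

/-!
# The Künneth map: existence, uniqueness and naturality
-/

set_option autoImplicit false

universe u

open CategoryTheory CategoryTheory.Limits MonoidalCategory HomologicalComplex

namespace Groth.Agent.Htor.H240.KunnMap

open KunnEl

variable {A : Type u} [CommRing A] (L M : DRing.Cx A)

lemma d_ι_map_iCycles (i j n : ℤ) (h : i + j = n) (x : TensorProduct A (L.cycles i) (M.cycles j)) :
    ((HTor.tensorCx L M).d n (n + 1)).hom (ι L M i j n h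
      (TensorProduct.map (L.iCycles i).hom (M.iCycles j).hom x)) = 0 := by
  induction x using TensorProduct.induction_on with
  | zero => rw [map_zero, map_zero, map_zero]
  | add x y hx hy => rw [map_add, map_add, map_add, hx, hy, add_zero]
  | tmul z z' =>
    rw [TensorProduct.map_tmul, d_ι L M i j n (i + 1) (j + 1) (n + 1) h rfl rfl rfl,
      LinearMap.rTensor_tmul, LinearMap.lTensor_tmul, d_iCycles, d_iCycles,
      TensorProduct.zero_tmul, TensorProduct.tmul_zero, map_zero, map_zero, smul_zero, add_zero]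

/-- `z ⊗ z' ↦` the cycle `z ⊗ z'`. -/
noncomputable def κ (i j n : ℤ) (h : i + j = n) :
    TensorProduct A (L.cycles i) (M.cycles j) →ₗ[A] (HTor.tensorCx L M).cycles n :=
  ((HTor.tensorCx L M).liftCycles (ModuleCat.ofHom (ι L M i j n h ∘ₗ
    TensorProduct.map (L.iCycles i).hom (M.iCycles j).hom)) (n + 1) (by simp)
    (by ext1; exact LinearMap.ext (d_ι_map_iCycles L M i j n h))).hom

lemma iCycles_κ (i j n : ℤ) (h : i + j = n) (x : TensorProduct A (L.cycles i) (M.cycles j)) :
    ((HTor.tensorCx L M).iCycles n).hom (κ L M i j n h x) =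
      ι L M i j n h (TensorProduct.map (L.iCycles i).hom (M.iCycles j).hom x) := by
  have := (HTor.tensorCx L M).liftCycles_i (ModuleCat.ofHom (ι L M i j n h ∘ₗ
    TensorProduct.map (L.iCycles i).hom (M.iCycles j).hom)) (n + 1) (by simp)
    (by ext1; exact LinearMap.ext (d_ι_map_iCycles L M i j n h))
  exact congrArg (fun φ => φ.hom x) this

/-- `π ⊗ π'`. -/
noncomputable abbrev ππ (i j : ℤ) : TensorProduct A (L.cycles i) (M.cycles j) →ₗ[A]
    TensorProduct A (L.homology i) (M.homology j) :=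
  TensorProduct.map (L.homologyπ i).hom (M.homologyπ j).hom

lemma ππ_surjective (i j : ℤ) : Function.Surjective (ππ L M i j) :=
  TensorProduct.map_surjective (homologyπ_surjective L i) (homologyπ_surjective M j)

lemma exact_toCycles (K : DRing.Cx A) (n m : ℤ) (h : n + 1 = m) :
    Function.Exact (K.toCycles n m).hom (K.homologyπ m).hom :=
  fun z => homologyπ_eq_zero_iff K n m h z

lemma map_usmul {X Y : Type*} [AddCommGroup X] [AddCommGroup Y] [Module A X] [Module A Y]
    (f : X →ₗ[A] Y) (c : ℤˣ) (x : X) : f (c • x) = c • f x := by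
  rw [Units.smul_def, Units.smul_def, map_zsmul]

lemma homologyπ_κ_rTensor (i j n : ℤ) (h : i + j = n)
    (x : TensorProduct A (L.X (i - 1)) (M.cycles j)) :
    ((HTor.tensorCx L M).homologyπ n).hom (κ L M i j n h
      (LinearMap.rTensor (M.cycles j) (L.toCycles (i - 1) i).hom x)) = 0 := by
  induction x using TensorProduct.induction_on with
  | zero => rw [map_zero, map_zero, map_zero]
  | add x y hx hy => rw [map_add, map_add, map_add, hx, hy, add_zero]
  | tmul y z =>
    rw [homologyπ_eq_zero_iff' _ (n - 1) n (by lia)]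
    refine ⟨ι L M (i - 1) j (n - 1) (by lia) (y ⊗ₜ (M.iCycles j).hom z), ?_⟩
    rw [iCycles_κ, d_ι L M (i - 1) j (n - 1) i (j + 1) n (by lia) (by lia) rfl (by lia),
      LinearMap.rTensor_tmul, LinearMap.lTensor_tmul, d_iCycles, TensorProduct.tmul_zero, map_zero,
      smul_zero, add_zero, LinearMap.rTensor_tmul, TensorProduct.map_tmul, iCycles_toCycles]

lemma homologyπ_κ_lTensor (i j n : ℤ) (h : i + j = n)
    (x : TensorProduct A (L.cycles i) (M.X (j - 1))) :
    ((HTor.tensorCx L M).homologyπ n).hom (κ L M i j n h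
      (LinearMap.lTensor (L.cycles i) (M.toCycles (j - 1) j).hom x)) = 0 := by
  induction x using TensorProduct.induction_on with
  | zero => rw [map_zero, map_zero, map_zero]
  | add x y hx hy => rw [map_add, map_add, map_add, hx, hy, add_zero]
  | tmul z y =>
    rw [homologyπ_eq_zero_iff' _ (n - 1) n (by lia)]
    refine ⟨(i.negOnePow : ℤˣ) • ι L M i (j - 1) (n - 1) (by lia) ((L.iCycles i).hom z ⊗ₜ y), ?_⟩
    rw [iCycles_κ, map_usmul, d_ι L M i (j - 1) (n - 1) (i + 1) j n (by lia) rfl (by lia) (by lia),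
      LinearMap.rTensor_tmul, LinearMap.lTensor_tmul, d_iCycles, TensorProduct.zero_tmul, map_zero,
      zero_add, smul_smul, LinearMap.lTensor_tmul, TensorProduct.map_tmul, iCycles_toCycles]
    simp

lemma ker_ππ_le (i j n : ℤ) (h : i + j = n) :
    LinearMap.ker (ππ L M i j) ≤
      LinearMap.ker (((HTor.tensorCx L M).homologyπ n).hom ∘ₗ κ L M i j n h) := by
  rw [TensorProduct.map_ker (exact_toCycles L (i - 1) i (by lia)) (homologyπ_surjective L i)
    (exact_toCycles M (j - 1) j (by lia)) (homologyπ_surjective M j), sup_le_iff]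
  constructor
  · rintro _ ⟨x, rfl⟩
    exact homologyπ_κ_lTensor L M i j n h x
  · rintro _ ⟨x, rfl⟩
    exact homologyπ_κ_rTensor L M i j n h x

/-- The component `H^i(L) ⊗ H^j(M) → H^n(L ⊗ M)` of the Künneth map. -/
noncomputable def φ (i j n : ℤ) (h : i + j = n) :
    TensorProduct A (L.homology i) (M.homology j) →ₗ[A] (HTor.tensorCx L M).homology n :=
  (LinearMap.ker (ππ L M i j)).liftQ _ (ker_ππ_le L M i j n h) ∘ₗ
    ((ππ L M i j).quotKerEquivOfSurjective (ππ_surjective L M i j)).symm.toLinearMap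

lemma φ_ππ (i j n : ℤ) (h : i + j = n) (x : TensorProduct A (L.cycles i) (M.cycles j)) :
    φ L M i j n h (ππ L M i j x) = ((HTor.tensorCx L M).homologyπ n).hom (κ L M i j n h x) := by
  have h1 : ((ππ L M i j).quotKerEquivOfSurjective (ππ_surjective L M i j)).symm (ππ L M i j x) =
      Submodule.Quotient.mk x := by
    rw [LinearEquiv.symm_apply_eq]
    rfl
  change (LinearMap.ker (ππ L M i j)).liftQ _ (ker_ππ_le L M i j n h)
    (((ππ L M i j).quotKerEquivOfSurjective (ππ_surjective L M i j)).symm (ππ L M i j x)) = _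
  rw [h1]
  rfl

/-- The Künneth map. -/
noncomputable def Φ (n : ℤ) : HTor.KunnethSum L M n →ₗ[A] (HTor.tensorCx L M).homology n :=
  DirectSum.toModule A (HTor.Antidiag n) _ (fun ij => φ L M ij.1.1 ij.1.2 n ij.2)

lemma Φ_lof (n : ℤ) (ij : HTor.Antidiag n)
    (x : TensorProduct A (L.homology ij.1.1) (M.homology ij.1.2)) :
    Φ L M n (DirectSum.lof A (HTor.Antidiag n) _ ij x) = φ L M ij.1.1 ij.1.2 n ij.2 x := by
  rw [Φ]
  exact DirectSum.toModule_lof (φ := fun ij : HTor.Antidiag n => φ L M ij.1.1 ij.1.2 n ij.2) A ij x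

/-- `Φ` is the Künneth map. -/
theorem isKunnethMap_Φ (n : ℤ) : HTor.IsKunnethMap L M n (Φ L M n) := by
  intro ij z z' w hw
  have h1 : w = κ L M ij.1.1 ij.1.2 n ij.2 (z ⊗ₜ z') := by
    apply iCycles_injective
    rw [iCycles_κ]
    exact hw
  rw [Φ_lof, h1]
  exact φ_ππ L M ij.1.1 ij.1.2 n ij.2 (z ⊗ₜ z')

/-- Uniqueness of the Künneth map. -/
theorem eq_Φ_of_isKunnethMap (n : ℤ) (Ψ : HTor.KunnethSum L M n →ₗ[A] (HTor.tensorCx L M).homology n)
    (hΨ : HTor.IsKunnethMap L M n Ψ) : Ψ = Φ L M n := by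
  refine DirectSum.linearMap_ext _ (fun ij => ?_)
  refine LinearMap.ext fun x => ?_
  obtain ⟨x, rfl⟩ := ππ_surjective L M ij.1.1 ij.1.2 x
  induction x using TensorProduct.induction_on with
  | zero => simp
  | add x y hx hy => rw [map_add, map_add, map_add, hx, hy]
  | tmul z z' =>
    have e := iCycles_κ L M ij.1.1 ij.1.2 n ij.2 (z ⊗ₜ z')
    exact (hΨ ij z z' _ e).trans (isKunnethMap_Φ L M n ij z z' _ e).symm

section Naturality

variable {L M} {M' : DRing.Cx A} (g : M ⟶ M')

/-- `L ⊗ g`. -/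
noncomputable abbrev tMap (L : DRing.Cx A) {M M' : DRing.Cx A} (g : M ⟶ M') :
    HTor.tensorCx L M ⟶ HTor.tensorCx L M' :=
  HomologicalComplex.tensorHom (𝟙 L) g

lemma tMap_f_ι (i j n : ℤ) (h : i + j = n) (x : TensorProduct A (L.X i) (M.X j)) :
    ((tMap L g).f n).hom (ι L M i j n h x) = ι L M' i j n h (LinearMap.lTensor (L.X i) (g.f j).hom x) := by
  have e := ι_mapBifunctorMap (𝟙 L) g (curriedTensor _) (ComplexShape.up ℤ) i j n h
  have e' : HomologicalComplex.ιTensorObj L M i j n h ≫ (tMap L g).f n =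
      (L.X i ◁ g.f j) ≫ HomologicalComplex.ιTensorObj L M' i j n h := by
    refine e.trans ?_
    simp
  exact congrArg (fun φ => φ.hom x) e'

/-- `⊕ H^i(L) ⊗ H^j(g)`. -/
noncomputable def sumMap (L : DRing.Cx A) {M M' : DRing.Cx A} (g : M ⟶ M') (n : ℤ) :
    HTor.KunnethSum L M n →ₗ[A] HTor.KunnethSum L M' n :=
  DirectSum.lmap (fun ij : HTor.Antidiag n =>
    LinearMap.lTensor (L.homology ij.1.1) (homologyMap g ij.1.2).hom)

lemma sumMap_lof (n : ℤ) (ij : HTor.Antidiag n)
    (x : TensorProduct A (L.homology ij.1.1) (M.homology ij.1.2)) :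
    sumMap L g n (DirectSum.lof A (HTor.Antidiag n) _ ij x) = DirectSum.lof A (HTor.Antidiag n) _ ij
      (LinearMap.lTensor (L.homology ij.1.1) (homologyMap g ij.1.2).hom x) :=
  DirectSum.lmap_lof _ _ _

/-- Naturality of the Künneth map. -/
theorem homologyMap_Φ (n : ℤ) (x : HTor.KunnethSum L M n) :
    (homologyMap (tMap L g) n).hom (Φ L M n x) = Φ L M' n (sumMap L g n x) := by
  have key : (homologyMap (tMap L g) n).hom ∘ₗ Φ L M n = Φ L M' n ∘ₗ sumMap L g n := by
    refine DirectSum.linearMap_ext _ (fun ij => ?_)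
    refine LinearMap.ext fun x => ?_
    obtain ⟨x, rfl⟩ := ππ_surjective L M ij.1.1 ij.1.2 x
    simp only [LinearMap.comp_apply]
    rw [sumMap_lof, Φ_lof, Φ_lof, φ_ππ, homologyMap_π]
    have h2 : LinearMap.lTensor (L.homology ij.1.1) (homologyMap g ij.1.2).hom
        (ππ L M ij.1.1 ij.1.2 x) = ππ L M' ij.1.1 ij.1.2
          (LinearMap.lTensor (L.cycles ij.1.1) (cyclesMap g ij.1.2).hom x) := by
      induction x using TensorProduct.induction_on with
      | zero => simp
      | add x y hx hy => simp only [map_add, hx, hy]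
      | tmul z z' =>
        rw [TensorProduct.map_tmul, LinearMap.lTensor_tmul, LinearMap.lTensor_tmul,
          TensorProduct.map_tmul, homologyMap_π]
    rw [h2, φ_ππ]
    clear h2
    congr 1
    apply iCycles_injective
    rw [iCycles_cyclesMap, iCycles_κ, iCycles_κ, tMap_f_ι]
    congr 1
    induction x using TensorProduct.induction_on with
    | zero => simp
    | add x y hx hy => simp only [map_add, hx, hy]
    | tmul z z' =>
      rw [TensorProduct.map_tmul, LinearMap.lTensor_tmul, LinearMap.lTensor_tmul,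
        TensorProduct.map_tmul, iCycles_cyclesMap]
  exact LinearMap.congr_fun key x

end Naturality

end Groth.Agent.Htor.H240.KunnMap
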