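import Groth.Agent.Htor.H240.KunnFlat
import Groth.Agent.Htor.H240.Cover
import Groth.Agent.Dcoh.KFlatSES
import Groth.Agent.CycA.TorShift
import Mathlib.Algebra.Category.ModuleCat.AB

/-!
# One step of the Künneth dimension shifting
-/

set_option autoImplicit false

universe u

open CategoryTheory CategoryTheory.Limits MonoidalCategory HomologicalComplex DirectSum

namespace Groth.Agent.Htor.H240.KunnStep

open KunnEl KunnMap DSum KunnFlat Groth.Agent.PerfB.RingKFlat

variable {A : Type u} [CommRing A]

lemma homology_exact (S : ShortComplex (DRing.Cx A)) (hS : S.ShortExact) (n : ℤ) :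
    ∃ δ : S.X₃.homology n →ₗ[A] S.X₁.homology (n + 1),
      Function.Exact (homologyMap S.g n).hom δ ∧
      Function.Exact δ (homologyMap S.f (n + 1)).hom ∧
      Function.Exact (homologyMap S.f n).hom (homologyMap S.g n).hom := by
  refine ⟨(hS.δ n (n + 1) rfl).hom, ?_, ?_, ?_⟩
  · exact (ShortComplex.ShortExact.moduleCat_exact_iff_function_exact _).1
      (hS.homology_exact₃ n (n + 1) rfl)
  · exact (ShortComplex.ShortExact.moduleCat_exact_iff_function_exact _).1
      (hS.homology_exact₁ n (n + 1) rfl)
  · exact (ShortComplex.ShortExact.moduleCat_exact_iff_function_exact _).1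
      (hS.homology_exact₂ n)

lemma shortExact_tensor (L : DRing.Cx A) (hL : DRing.TermwiseFlat L) (S : ShortComplex (DRing.Cx A))
    (hS : S.ShortExact) : (S.map ((TR A).map₂CochainComplex.obj L)).ShortExact := by
  refine Groth.Agent.Dcoh.KFlatSES.shortExact_map (TR A) L S (fun p q => ?_)
  have h1 : (S.map (eval (ModuleCat.{u} A) (ComplexShape.up ℤ) q)).ShortExact :=
    hS.map_of_exact (eval (ModuleCat.{u} A) (ComplexShape.up ℤ) q)
  have := hL p
  exact h1.map_of_exact (tensorLeft (L.X p))

lemma isZero_tensor_X (L M : DRing.Cx A) {a b : ℤ} (hL : DRing.VanishesAbove L a)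
    (hM : DRing.VanishesAbove M b) (n : ℤ) (hn : a + b < n) :
    IsZero ((HTor.tensorCx L M).X n) := by
  have h : ∀ ij : HTor.Antidiag n, Subsingleton (TensorProduct A (L.X ij.1.1) (M.X ij.1.2)) := by
    rintro ⟨⟨i, j⟩, hij⟩
    dsimp at hij ⊢
    by_cases hi : a < i
    · have := ModuleCat.subsingleton_of_isZero (hL i hi)
      infer_instance
    · have := ModuleCat.subsingleton_of_isZero (hM j (by lia))
      infer_instance
  have h1 : Subsingleton (TSum L M n) := ⟨fun x y => DFinsupp.ext fun ij => Subsingleton.elim _ _⟩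
  have h2 : Subsingleton ((HTor.tensorCx L M).X n) := (T_surjective L M n).subsingleton
  exact ModuleCat.isZero_of_subsingleton _

lemma subsingleton_homology (L M : DRing.Cx A) {a b : ℤ} (hL : DRing.VanishesAbove L a)
    (hM : DRing.VanishesAbove M b) (n : ℤ) (hn : a + b < n) :
    Subsingleton ((HTor.tensorCx L M).homology n) := by
  have h1 := ModuleCat.subsingleton_of_isZero (isZero_tensor_X L M hL hM n hn)
  have h2 : Subsingleton ((HTor.tensorCx L M).cycles n) := (iCycles_injective _ n).subsingleton
  exact (homologyπ_surjective (HTor.tensorCx L M) n).subsingleton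

/-- Dimension shifting data for the Künneth map of `L ⊗ M`. -/
theorem exists_step (L : DRing.Cx A) (hL : DRing.TermwiseFlat L) {a : ℤ} (bL : DRing.VanishesAbove L a)
    (M : DRing.Cx A) {b : ℤ} (hM : DRing.VanishesAbove M b) :
    ∃ (M' P : DRing.Cx A) (i : M' ⟶ P) (p : P ⟶ M), DRing.VanishesAbove M' b ∧
      (∀ j, Module.Projective A (P.homology j)) ∧
      (∀ j, Function.Injective (homologyMap i j).hom) ∧
      (∀ j, Function.Exact (homologyMap i j).hom (homologyMap p j).hom) ∧
      (∀ j, Function.Surjective (homologyMap p j).hom) ∧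
      (∀ n, Function.Bijective (Φ L P n)) ∧
      ∀ n, ∃ δ : (HTor.tensorCx L M).homology n →ₗ[A] (HTor.tensorCx L M').homology (n + 1),
        Function.Exact (homologyMap (tMap L p) n).hom δ ∧
        Function.Exact δ (homologyMap (tMap L i) (n + 1)).hom ∧
        Function.Exact (homologyMap (tMap L i) n).hom (homologyMap (tMap L p) n).hom := by
  let p := Cover.p M b
  have hp : Epi p := by
    have : ∀ j, Epi (p.f j) := fun j => (ModuleCat.epi_iff_surjective _).2 (Cover.p_surjective M hM j)
    exact HomologicalComplex.epi_of_epi_f p this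
  let S : ShortComplex (DRing.Cx A) := ShortComplex.mk (kernel.ι p) p (kernel.condition p)
  have hS : S.ShortExact :=
    { exact := ShortComplex.exact_of_f_is_kernel _ (kernelIsKernel p)
      mono_f := inferInstanceAs (Mono (kernel.ι p))
      epi_g := hp }
  have hT := shortExact_tensor L hL S hS
  have hex := homology_exact S hS
  have hinj : ∀ j, Function.Injective (homologyMap S.f j).hom := by
    intro j
    obtain ⟨δ, h1, h2, h3⟩ := hex (j - 1)
    have h4 : δ = 0 := by
      refine LinearMap.ext fun x => ?_
      obtain ⟨y, rfl⟩ := Cover.homologyMap_p_surjective M hM (j - 1) x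
      exact (h1 _).2 ⟨y, rfl⟩
    subst h4
    have h5 : Function.Injective (homologyMap S.f (j - 1 + 1)).hom := by
      rw [injective_iff_map_eq_zero]
      intro x hx
      obtain ⟨y, rfl⟩ := (h2 x).1 hx
      rfl
    rwa [show j - 1 + 1 = j by lia] at h5
  refine ⟨kernel p, Cover.P M b, kernel.ι p, p, ?_, ?_, hinj, ?_,
    Cover.homologyMap_p_surjective M hM, ?_, ?_⟩
  · intro j hj
    have h1 := Cover.P_vanishesAbove M (b := b) j hj
    exact IsZero.of_mono ((kernel.ι p).f j) h1
  · intro j
    have e : (Cover.Q M b).homology j ≅ (Cover.P M b).homology j :=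
      asIso (homologyMap (Cover.s M b) j)
    have e' : (Cover.Q M b).homology j ≃ₗ[A] (Cover.Q M b).X j := by
      refine LinearEquiv.symm (LinearEquiv.ofBijective (((Cover.Q M b).homologyπ j).hom ∘ₗ
        (LinearEquiv.ofBijective ((Cover.Q M b).iCycles j).hom
          (iCycles_bijective (Cover.Q M b) (fun _ _ => rfl) j)).symm.toLinearMap) ⟨?_, ?_⟩)
      · have hπ : Function.Injective ((Cover.Q M b).homologyπ j).hom := by
          rw [injective_iff_map_eq_zero]
          intro z hz
          obtain ⟨y, hy⟩ := (homologyπ_eq_zero_iff' _ (j - 1) j (by lia) z).1 hz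
          exact iCycles_injective _ j (hy.symm.trans (map_zero _).symm)
        exact hπ.comp (LinearEquiv.injective _)
      · exact (homologyπ_surjective _ j).comp (LinearEquiv.surjective _)
    have : Module.Projective A ((Cover.Q M b).X j) :=
      inferInstanceAs (Module.Projective A (Cover.S M b j →₀ A))
    exact Module.Projective.of_equiv (e'.symm.trans e.toLinearEquiv)
  · intro j
    obtain ⟨δ, h1, h2, h3⟩ := hex j
    exact h3
  · intro n
    exact Φ_bijective_of_quasiIso L hL bL (Cover.s M b) (fun _ _ => rfl)
      (fun j => inferInstanceAs (Module.Flat A (Cover.S M b j →₀ A))) n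
  · intro n
    exact homology_exact _ hT n

end Groth.Agent.Htor.H240.KunnStep
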